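import Cfsg.Agent.H36.SLThreeForms.Unitary
import Cfsg.Agent.Symplectic.HermBasic

/-!
Unitary groups of degree three: from the transvections of one hyperbolic line and one more to all
transvections.
-/

set_option autoImplicit false

open Cfsg

namespace Cfsg.Agent.H36.SUThreeGeo

open scoped MatrixGroups Matrix
open Matrix
open Cfsg.Agent.H95 hiding exists_aniso_perp3 exists_isotropic
open Cfsg.Agent.Symplectic (ut ut_mulVec ut_mem_iso ut_mem_sl UtIn conj_ut)
open Cfsg.Agent.H36.SLThreeForms (expand exists_coeff exists_third exists_iso_comb exists_orth_pair)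

variable {F : Type*} [Field F] [Fintype F]
  {σ : F ≃+* F} {f : (Fin 3 → F) → (Fin 3 → F) → F} (hf : Geo.IsUnitaryForm σ f)

set_option linter.unusedSectionVars false

include hf

/-- `SU₃(q)` is generated by its transvections, `q ≥ 3`. -/
theorem su_le_of_ut_three {q : ℕ} (hF : Fintype.card F = q ^ 2) (hq : 3 ≤ q)
    (hσ : ∀ x, σ x = x ^ q) (hfe : f = Cfsg.hermForm 3 F q) {M : Subgroup (GL (Fin 3) F)}
    (h : ∀ v, f v v = 0 → UtIn hf M v) :
    Cfsg.GU 3 F q ⊓ Geo.specialLinear (Fin 3) F ≤ M := by
  subst hfe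
  rintro g ⟨hg, hgs⟩
  have hdet : (g : Matrix (Fin 3) (Fin 3) F).det = 1 := mem_specialLinear_iff.1 hgs
  let φ : Cfsg.SU 3 F q →* GL (Fin 3) F :=
    (Matrix.SpecialLinearGroup.toGL).comp (Cfsg.SU 3 F q).subtype
  have hle : ⊤ ≤ M.comap φ := by
    rw [← Unitary.tgroup_eq_top hF (.inr ⟨rfl, hq⟩), Unitary.tgroup, Subgroup.closure_le]
    rintro A ⟨v, c, hv, hA⟩
    have hval : (φ A : Matrix (Fin 3) (Fin 3) F) = Cfsg.unitaryTransvection 3 q v c := hA
    rcases eq_or_ne v 0 with rfl | hv0
    · show φ A ∈ M
      convert M.one_mem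
      refine gl_ext fun x => ?_
      rw [hval, Unitary.unitaryTransvection_mulVec]
      simp
    have hc : σ c = -c := by
      obtain ⟨⟨y, hy⟩, -⟩ := hf.nondegenerate v hv0
      have hA' : Cfsg.hermForm 3 F q ((φ A : Matrix (Fin 3) (Fin 3) F) *ᵥ y)
          ((φ A : Matrix (Fin 3) (Fin 3) F) *ᵥ y) = Cfsg.hermForm 3 F q y y := A.2 y y
      rw [hval, Unitary.unitaryTransvection_mulVec] at hA'
      simp only [u_add_left hf, u_add_right hf, u_smul_left hf, u_smul_right hf, hv, map_mul,
        u_conj hf] at hA'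
      have hne : Cfsg.hermForm 3 F q y v * Cfsg.hermForm 3 F q v y ≠ 0 :=
        mul_ne_zero hy fun h0 => hy (u_symm_zero hf h0)
      exact mul_right_cancel₀ hne (by linear_combination hA')
    show φ A ∈ M
    convert h v hv c hc using 1
    refine gl_ext fun x => ?_
    rw [hval, Unitary.unitaryTransvection_mulVec, ut_mulVec hf hv]
  let A : Cfsg.SU 3 F q := ⟨⟨(g : Matrix (Fin 3) (Fin 3) F), hdet⟩, hg⟩
  have : φ A = g := Units.ext rfl
  exact this ▸ hle (Subgroup.mem_top A)

/-- The transvections of a hyperbolic line and one further transvection group give all. -/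
theorem utIn_all_of_pair {M : Subgroup (GL (Fin 3) F)} {e d v x : Fin 3 → F}
    (he : f e e = 0) (hd : f d d = 0) (hed : f e d = 1) (hve : f v e = 0) (hvd : f v d = 0)
    (hv : f v v ≠ 0) (hTe : UtIn hf M e) (hTd : UtIn hf M d) (hxx : f x x = 0)
    (hTx : UtIn hf M x) (hxv : f x v ≠ 0) {y : Fin 3 → F} (hyy : f y y = 0) : UtIn hf M y := by
  have hde : f d e = 1 := by rw [← u_conj hf, hed, map_one]
  have hev : f e v = 0 := u_symm_zero hf hve
  have hdv : f d v = 0 := u_symm_zero hf hvd
  obtain ⟨δ, hδ0, hδ⟩ := exists_skew_ne_zero hf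
  -- the line
  have hline : ∀ y, f y y = 0 → f y v = 0 → UtIn hf M y := by
    intro y hy hyv
    have hy' := expand hf he hd hed hve hvd hv y
    rw [hyv, zero_div, zero_smul, add_zero] at hy'
    rw [hy']
    rcases eq_or_ne (f y e) 0 with hb | hb
    · rw [hb, zero_smul, add_zero]; exact hTe.smul hf he _
    · set c := f y d / f y e with hc
      have hcc : σ c = -c := by
        have h1 : f (c • e + d) (c • e + d) = 0 := by
          have h2 : y = f y e • (c • e + d) := by
            conv_lhs => rw [hy']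
            rw [hc, smul_add, smul_smul, mul_div_cancel₀ _ hb]
          rw [h2, u_smul_left hf, u_smul_right hf, mul_eq_zero] at hy
          rcases hy with h | h
          · exact absurd h hb
          · exact (mul_eq_zero.1 h).resolve_left ((map_ne_zero_iff σ σ.injective).2 hb)
        simp only [u_add_left hf, u_add_right hf, u_smul_left hf, u_smul_right hf, he, hd, hed, hde]
          at h1
        linear_combination h1
      have h1 := hTd.conj hf hd (hTe c hcc) (ut_mem_iso hf he hcc)
      rw [ut_mulVec hf he, hde, mul_one] at h1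
      have h2 := h1.smul hf (by
        simp only [u_add_left hf, u_add_right hf, u_smul_left hf, u_smul_right hf, he, hd, hed, hde]
        linear_combination hcc) (f y e)
      rw [smul_add, smul_smul, hc, mul_div_cancel₀ _ hb] at h2
      rwa [add_comm (f y d • e)]
  -- the moves off the line
  obtain ⟨t₀, ht₀⟩ := exists_trace_eq hf (s := -f v v) (by rw [map_neg, u_conj hf])
  let N : (Fin 3 → F) → Prop := fun z =>
    ∃ k ∈ M, k ∈ isoGrp f ∧ (k : Matrix (Fin 3) (Fin 3) F) *ᵥ z = v + t₀ • e + d
  have hNe : ∀ (a b l : F), σ l = -l → N (v + (a + l * b) • e + b • d) → N (v + a • e + b • d) := by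
    rintro a b l hl ⟨k, hk, hki, hkz⟩
    refine ⟨k * ut hf e l, M.mul_mem hk (hTe l hl),
      Subgroup.mul_mem _ hki (ut_mem_iso hf he hl), ?_⟩
    rw [mul_mulVec, ut_mulVec hf he, u_add_left hf, u_add_left hf, u_smul_left hf, u_smul_left hf,
      hve, he, hde, mul_zero, zero_add, zero_add, mul_one, ← hkz]
    congr 1
    module
  have hNd : ∀ (a b m : F), σ m = -m → N (v + a • e + (b + m * a) • d) → N (v + a • e + b • d) := by
    rintro a b m hm ⟨k, hk, hki, hkz⟩
    refine ⟨k * ut hf d m, M.mul_mem hk (hTd m hm),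
      Subgroup.mul_mem _ hki (ut_mem_iso hf hd hm), ?_⟩
    rw [mul_mulVec, ut_mulVec hf hd, u_add_left hf, u_add_left hf, u_smul_left hf, u_smul_left hf,
      hvd, hd, hed, mul_zero, add_zero, zero_add, mul_one, ← hkz]
    congr 1
    module
  have hN1 : ∀ a : F, a + σ a = -f v v → N (v + a • e + (1 : F) • d) := by
    intro a ha
    refine hNe a 1 (t₀ - a) ?_ ⟨1, M.one_mem, Subgroup.one_mem _, ?_⟩
    · rw [map_sub]; linear_combination ht₀ - ha
    · rw [Units.val_one, one_mulVec, mul_one, add_sub_cancel, one_smul]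
  have hN2 : ∀ a b : F, a * σ b + b * σ a = -f v v → σ b ≠ b → N (v + a • e + b • d) := by
    intro a b hab hb
    have hbb : b - σ b ≠ 0 := sub_ne_zero.2 (Ne.symm hb)
    set l := -((1 - b) * σ a + σ (1 - b) * a) / (b - σ b) with hl
    have hls : σ l = -l := by
      rw [hl, map_div₀, map_neg, map_add, map_mul, map_mul, map_sub σ b, u_inv hf, u_inv hf, u_inv hf,
        ← neg_sub b (σ b), div_neg]
      ring
    refine hNe a b l hls ?_
    set a' := a + l * b
    have ha'0 : a' ≠ 0 := by
      intro h
      have h1 : σ a + σ l * σ b = 0 := by rw [← map_mul, ← map_add]; exact (congrArg σ h).trans (map_zero σ)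
      refine hv (neg_eq_zero.1 ?_)
      linear_combination -hab + σ b * h + b * h1 - b * σ b * hls
    have hkey : (1 - b) * σ a' + σ (1 - b) * a' = 0 := by
      have hlb : l * (b - σ b) = -((1 - b) * σ a + σ (1 - b) * a) := div_mul_cancel₀ _ hbb
      simp only [a', map_add, map_mul, map_sub, map_one] at hlb ⊢
      linear_combination hlb + (1 - b) * σ b * hls
    set m := (1 - b) / a'
    have hσa : σ a' ≠ 0 := (map_ne_zero_iff σ σ.injective).2 ha'0
    have hms : σ m = -m := by
      simp only [m, map_div₀]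
      rw [div_eq_iff hσa, neg_mul, div_mul_eq_mul_div, eq_neg_iff_add_eq_zero]
      field_simp
      linear_combination hkey
    refine hNd a' b m hms ?_
    rw [show b + m * a' = 1 by simp only [m]; rw [div_mul_cancel₀ _ ha'0]; ring]
    refine hN1 a' ?_
    have h1 : σ a' = σ a + σ l * σ b := by simp only [a', map_add, map_mul]
    have h2 : σ (1 - b) = 1 - σ b := by rw [map_sub, map_one]
    rw [h2] at hkey
    linear_combination hkey + hab + b * h1 + b * σ b * hls
  have hN : ∀ a b : F, a * σ b + b * σ a = -f v v → N (v + a • e + b • d) := by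
    intro a b hab
    by_cases hb : σ b = b
    · refine hNd a b δ hδ (hN2 a (b + δ * a) ?_ fun h => hv (neg_eq_zero.1 ?_))
      · rw [map_add, map_mul, hδ]; linear_combination hab
      · rw [map_add, map_mul, hδ, hb] at h
        have : δ * (a + σ a) = 0 := by linear_combination -h
        have h3 := (mul_eq_zero.1 this).resolve_left hδ0
        linear_combination -hab + b * h3 + a * hb
    · exact hN2 a b hab hb
  -- normalised off-line vectors
  have hnorm : ∀ y, f y y = 0 → f y v ≠ 0 → N ((f v v / f y v) • y) := by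
    intro y hy hyv
    set y' := (f v v / f y v) • y
    have h1 : f y' v = f v v := by rw [u_smul_left hf, div_mul_cancel₀ _ hyv]
    have h2 : f y' y' = 0 := by rw [u_smul_left hf, u_smul_right hf, hy]; ring
    have h3 := expand hf he hd hed hve hvd hv y'
    rw [h1, div_self hv, one_smul, add_comm _ v, ← add_assoc] at h3
    rw [h3]
    refine hN _ _ ?_
    rw [h3] at h2
    simp only [u_add_left hf, u_add_right hf, u_smul_left hf, u_smul_right hf, he, hd, hed, hde, hve,
      hvd, hev, hdv] at h2
    linear_combination h2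
  by_cases hyv : f y v = 0
  · exact hline y hyy hyv
  obtain ⟨kx, hkx, hkxi, hkxe⟩ := hnorm x hxx hxv
  obtain ⟨ky, hky, hkyi, hkye⟩ := hnorm y hyy hyv
  have h1 := (hTx.smul hf hxx (f v v / f x v)).conj hf
    (by rw [u_smul_left hf, u_smul_right hf, hxx]; ring) hkx hkxi
  rw [hkxe, ← hkye] at h1
  have h2 := h1.conj hf (by
    rw [mem_isoGrp.1 hkyi, u_smul_left hf, u_smul_right hf, hyy]; ring) (M.inv_mem hky)
    (Subgroup.inv_mem _ hkyi)
  rw [inv_mulVec_mulVec] at h2
  have h3 := h2.smul hf (by rw [u_smul_left hf, u_smul_right hf, hyy]; ring) (f y v / f v v)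
  rwa [smul_smul, div_mul_div_cancel₀ hv, div_self hyv, one_smul] at h3

end Cfsg.Agent.H36.SUThreeGeo
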