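import Cfsg.Agent.H36.SUThreeGeo.Basic
import Cfsg.Agent.H98.UnitaryOrth.Main

/-!
Orthogonal subfield groups are maximal in `SU₃(q)`, `q ≥ 7` odd.
-/

set_option autoImplicit false

open Cfsg

namespace Cfsg.Agent.H36.SUThreeGeo

open scoped MatrixGroups Matrix
open Matrix
open Cfsg.Agent.H95 hiding exists_aniso_perp3 exists_isotropic
open Cfsg.Agent.Symplectic (ut ut_mulVec ut_mem_iso ut_mem_sl UtIn conj_ut u_neg_right EichOK ue
  ue_mulVec ue_mem_iso ue_mem_sl ue_mul ut_add)
open Cfsg.Agent.H36.SLThreeForms (expand exists_coeff exists_third)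

set_option linter.unusedSectionVars false

/-- A nonzero polynomial of degree at most two has at most two roots. -/
lemma card_quad_roots {F : Type*} [Field F] [DecidableEq F] (K : Finset F) {a b c : F}
    (h : ¬ (a = 0 ∧ b = 0 ∧ c = 0)) : (K.filter fun t => a * t ^ 2 + b * t + c = 0).card ≤ 2 := by
  by_contra hcon
  obtain ⟨x, y, z, hx, hy, hz, hxy, hxz, hyz⟩ := Finset.two_lt_card_iff.1 (not_le.1 hcon)
  have ex := (Finset.mem_filter.1 hx).2
  have ey := (Finset.mem_filter.1 hy).2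
  have ez := (Finset.mem_filter.1 hz).2
  have h1 : (x - y) * (a * (x + y) + b) = 0 := by linear_combination ex - ey
  have h2 : (x - z) * (a * (x + z) + b) = 0 := by linear_combination ex - ez
  have h1' := (mul_eq_zero.1 h1).resolve_left (sub_ne_zero.2 hxy)
  have h2' := (mul_eq_zero.1 h2).resolve_left (sub_ne_zero.2 hxz)
  have ha : a = 0 := by
    have h3 : a * (y - z) = 0 := by linear_combination h1' - h2'
    exact (mul_eq_zero.1 h3).resolve_right (sub_ne_zero.2 hyz)
  subst ha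
  have hb : b = 0 := by linear_combination h1'
  subst hb
  exact h ⟨rfl, rfl, by linear_combination ex⟩

variable {F : Type*} [Field F] [Fintype F]
  {σ : F ≃+* F} {f : (Fin 3 → F) → (Fin 3 → F) → F} (hf : Geo.IsUnitaryForm σ f)

/-- A conjugation of the space compatible with the form. -/
structure IsConj (σ : F ≃+* F) (f : (Fin 3 → F) → (Fin 3 → F) → F)
    (cj : (Fin 3 → F) → (Fin 3 → F)) : Prop where
  add : ∀ x y, cj (x + y) = cj x + cj y
  smul : ∀ (c : F) x, cj (c • x) = σ c • cj x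
  invol : ∀ x, cj (cj x) = x
  form : ∀ x y, f (cj x) (cj y) = σ (f x y)
  two : (2 : F) ≠ 0

namespace IsConj

variable {cj : (Fin 3 → F) → (Fin 3 → F)} (hC : IsConj σ f cj)
include hC

lemma neg (x : Fin 3 → F) : cj (-x) = -cj x := by
  rw [← neg_one_smul F x, hC.smul, map_neg, map_one, neg_one_smul]

lemma sub (x y : Fin 3 → F) : cj (x - y) = cj x - cj y := by
  rw [sub_eq_add_neg, hC.add, hC.neg, ← sub_eq_add_neg]

lemma zero : cj 0 = 0 := by simpa using hC.smul 0 0

lemma ne_zero {x : Fin 3 → F} (hx : x ≠ 0) : cj x ≠ 0 := fun h => hx (by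
  rw [← hC.invol x, h, hC.zero])

lemma form_left (x y : Fin 3 → F) : f (cj x) y = σ (f x (cj y)) := by
  rw [← hC.form, hC.invol]

include hf

lemma swap (x y : Fin 3 → F) : f x (cj y) = f y (cj x) := by
  rw [← u_conj hf (cj x) y, hC.form_left, u_inv hf]

lemma rat {x y : Fin 3 → F} (hx : cj x = x) (hy : cj y = y) : σ (f x y) = f x y := by
  rw [← hC.form, hx, hy]

lemma rat_comm {x y : Fin 3 → F} (hx : cj x = x) (hy : cj y = y) : f y x = f x y := by
  rw [← u_conj hf, hC.rat hf hx hy]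

/-- Every vector is a combination of two rational ones. -/
lemma decomp (x : Fin 3 → F) : ∃ (θ : F) (a b : Fin 3 → F), σ θ = -θ ∧ θ ≠ 0 ∧ cj a = a ∧ cj b = b ∧
    x = a + θ • b := by
  obtain ⟨θ, hθ0, hθ⟩ := exists_skew_ne_zero hf
  have h2 := hC.two
  refine ⟨θ, (2 : F)⁻¹ • (x + cj x), (2 * θ)⁻¹ • (x - cj x), hθ, hθ0, ?_, ?_, ?_⟩
  · rw [hC.smul, hC.add, hC.invol, map_inv₀, map_ofNat, add_comm]
  · rw [hC.smul, hC.sub, hC.invol, map_inv₀, map_mul, map_ofNat, hθ, mul_neg, inv_neg, neg_smul,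
      ← smul_neg, neg_sub]
  · rw [smul_smul, show θ * (2 * θ)⁻¹ = (2 : F)⁻¹ by field_simp, ← smul_add]
    rw [show x + cj x + (x - cj x) = (2 : F) • x by module, smul_smul, inv_mul_cancel₀ h2, one_smul]

lemma eq_zero {x : Fin 3 → F} (h : ∀ r, cj r = r → f x r = 0) : x = 0 := by
  by_contra hx
  obtain ⟨-, w, hw⟩ := hf.nondegenerate x hx
  obtain ⟨θ, a, b, -, -, ha, hb, rfl⟩ := hC.decomp hf w
  exact hw (by rw [u_add_right hf, u_smul_right hf, h a ha, h b hb]; ring)

lemma exists_rat_outside (x : Fin 3 → F) : ∃ r, cj r = r ∧ ∀ c : F, r ≠ c • x := by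
  by_contra hcon
  push Not at hcon
  have hall : ∀ w, ∃ c : F, w = c • x := by
    intro w
    obtain ⟨θ, a, b, -, -, ha, hb, rfl⟩ := hC.decomp hf w
    obtain ⟨p, rfl⟩ := hcon a ha
    obtain ⟨r, rfl⟩ := hcon b hb
    exact ⟨p + θ * r, by rw [smul_smul, ← add_smul]⟩
  obtain ⟨a, ha⟩ := hall (Pi.single 0 1)
  obtain ⟨b, hb⟩ := hall (Pi.single 1 1)
  have a0 := congrFun ha 0
  have a1 := congrFun ha 1
  have b1 := congrFun hb 1
  simp at a0 a1 b1
  rcases a1 with h | h
  · rw [h, zero_mul] at a0; exact one_ne_zero a0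
  · rw [h, mul_zero] at b1; exact one_ne_zero b1

/-- A rational vector orthogonal to `w` and its conjugate. -/
lemma exists_rat_perp (w : Fin 3 → F) : ∃ a, a ≠ 0 ∧ cj a = a ∧ f a w = 0 ∧ f a (cj w) = 0 := by
  obtain ⟨θ, hθ0, hθ⟩ := exists_skew_ne_zero hf
  let L : (Fin 3 → F) →ₗ[F] (Fin 2 → F) :=
    { toFun := fun y => ![f y w, f y (cj w)]
      map_add' := fun y z => by ext i; fin_cases i <;> simp [u_add_left hf]
      map_smul' := fun t y => by ext i; fin_cases i <;> simp [u_smul_left hf] }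
  obtain ⟨y, hy, hy0⟩ := Submodule.exists_mem_ne_zero_of_ne_bot
    (LinearMap.ker_ne_bot_of_finrank_lt (f := L) (by simp))
  have h1 : f y w = 0 := congrFun (LinearMap.mem_ker.1 hy) 0
  have h2 : f y (cj w) = 0 := congrFun (LinearMap.mem_ker.1 hy) 1
  have h3 : f (cj y) w = 0 := by rw [hC.form_left, h2, map_zero]
  have h4 : f (cj y) (cj w) = 0 := by rw [hC.form, h1, map_zero]
  by_cases hs : y + cj y = 0
  · refine ⟨θ • (y - cj y), smul_ne_zero hθ0 fun h => hy0 ?_, ?_, ?_, ?_⟩
    · have h' : (2 : F) • y = 0 := by rw [show (2 : F) • y = (y + cj y) + (y - cj y) by module, hs, h,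
        add_zero]
      exact (smul_eq_zero.1 h').resolve_left hC.two
    · rw [hC.smul, hC.sub, hC.invol, hθ]; module
    · rw [u_smul_left hf, u_sub_left hf, h1, h3, sub_zero, mul_zero]
    · rw [u_smul_left hf, u_sub_left hf, h2, h4, sub_zero, mul_zero]
  · refine ⟨y + cj y, hs, by rw [hC.add, hC.invol, add_comm], ?_, ?_⟩
    · rw [u_add_left hf, h1, h3, add_zero]
    · rw [u_add_left hf, h2, h4, add_zero]

/-- A rational frame through a rational isotropic vector. -/
lemma exists_frame {e : Fin 3 → F} (he0 : e ≠ 0) (hre : cj e = e) (he : f e e = 0) :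
    ∃ d v, cj d = d ∧ cj v = v ∧ f d d = 0 ∧ f e d = 1 ∧ f v e = 0 ∧ f v d = 0 ∧ f v v ≠ 0 := by
  obtain ⟨w, hw, hew⟩ : ∃ w, cj w = w ∧ f e w ≠ 0 := by
    by_contra hcon
    push Not at hcon
    exact he0 (hC.eq_zero hf hcon)
  set w₁ := (f e w)⁻¹ • w with hw₁
  have hr₁ : cj w₁ = w₁ := by rw [hw₁, hC.smul, map_inv₀, hC.rat hf hre hw, hw]
  have he₁ : f e w₁ = 1 := by
    rw [hw₁, u_smul_right hf, map_inv₀, hC.rat hf hre hw, inv_mul_cancel₀ hew]
  have h1e : f w₁ e = 1 := by rw [hC.rat_comm hf hre hr₁, he₁]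
  clear_value w₁
  set d := w₁ - (f w₁ w₁ / 2) • e with hd
  have hs : σ (f w₁ w₁ / 2) = f w₁ w₁ / 2 := by rw [map_div₀, hC.rat hf hr₁ hr₁, map_ofNat]
  have hrd : cj d = d := by rw [hd, hC.sub, hC.smul, hs, hre, hr₁]
  have hdd : f d d = 0 := by
    have h2 := hC.two
    simp only [hd, u_sub_left hf, u_sub_right hf, u_smul_left hf, u_smul_right hf, hs, he, he₁, h1e]
    field_simp
    ring
  have hed : f e d = 1 := by rw [hd, u_sub_right hf, u_smul_right hf, he, he₁]; ring
  have hde : f d e = 1 := by rw [hC.rat_comm hf hre hrd, hed]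
  obtain ⟨z, hze, hzd, hzz⟩ := exists_third hf (a := e) (b := d) (fun p r h1 h2 => by
    rw [he, hde] at h1; rw [hed, hdd] at h2
    exact ⟨by linear_combination h2, by linear_combination h1⟩)
  obtain ⟨θ, a, b, hθ, hθ0, ha, hb, hab⟩ := hC.decomp hf z
  have key : ∀ r, cj r = r → f z r = 0 → f a r = 0 ∧ f b r = 0 := by
    intro r hr h
    have h' := congrArg σ h
    rw [hab, u_add_left hf, u_smul_left hf] at h
    rw [hab, u_add_left hf, u_smul_left hf, map_add, map_mul, hC.rat hf ha hr, hC.rat hf hb hr,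
      hθ, map_zero] at h'
    have h2 : (2 : F) * f a r = 0 := by linear_combination h + h'
    have h3 : (2 * θ) * f b r = 0 := by linear_combination h - h'
    exact ⟨(mul_eq_zero.1 h2).resolve_left hC.two,
      (mul_eq_zero.1 h3).resolve_left (mul_ne_zero hC.two hθ0)⟩
  obtain ⟨hae, hbe⟩ := key e hre hze
  obtain ⟨had, hbd⟩ := key d hrd hzd
  have mult : ∀ r, f r e = 0 → f r d = 0 → r = (f r z / f z z) • z := by
    intro r h1 h2
    conv_lhs => rw [expand hf he hdd hed hze hzd hzz r, h1, h2]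
    simp
  by_cases haz : a = 0
  · refine ⟨d, b, hrd, hb, hdd, hed, hbe, hbd, fun h => hzz ?_⟩
    rw [hab, haz, zero_add, u_smul_left hf, u_smul_right hf, h]; ring
  · refine ⟨d, a, hrd, ha, hdd, hed, hae, had, fun h => haz ?_⟩
    have h1 := mult a hae had
    rw [h1, u_smul_left hf, u_smul_right hf] at h
    rw [h1]
    rcases mul_eq_zero.1 h with h0 | h0
    · rw [h0, zero_smul]
    · rw [(map_eq_zero_iff σ σ.injective).1 ((mul_eq_zero.1 h0).resolve_right hzz), zero_smul]

end IsConj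

include hf

/-- Orthogonal isotropic vectors are proportional. -/
lemma iso_orth_dep {x y : Fin 3 → F} (hx0 : x ≠ 0) (hx : f x x = 0) (hy : f y y = 0)
    (hyx : f y x = 0) : ∃ c : F, y = c • x := by
  obtain ⟨d, hd, -, hxd⟩ := exists_partner hf hx (u := 0) (u_zero_right hf x)
    (fun t => by rw [smul_zero]; exact hx0)
  have hdx : f d x = 1 := by rw [← u_conj hf, hxd, map_one]
  obtain ⟨z, hzx, hzd, hzz⟩ := exists_third hf (a := x) (b := d) (fun p r h1 h2 => by
    rw [hx, hdx] at h1; rw [hxd, hd] at h2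
    exact ⟨by linear_combination h2, by linear_combination h1⟩)
  have h := expand hf hx hd hxd hzx hzd hzz y
  rw [hyx, zero_smul, add_zero] at h
  refine ⟨f y d, ?_⟩
  set k := f y z / f z z
  have hk : k = 0 := by
    rw [h] at hy
    simp only [u_add_left hf, u_add_right hf, u_smul_left hf, u_smul_right hf, hx, hzx,
      u_symm_zero hf hzx, mul_zero, zero_add] at hy
    rcases mul_eq_zero.1 hy with h' | h'
    · exact h'
    · exact (map_eq_zero_iff σ σ.injective).1 ((mul_eq_zero.1 h').resolve_right hzz)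
  rw [hk, zero_smul, add_zero] at h
  exact h

/-- The half-turn about an anisotropic vector. -/
noncomputable def hturn (u : Fin 3 → F) : GL (Fin 3) F :=
  letI := Classical.propDecidable (f u u = 0)
  if h : f u u = 0 then 1 else
    ⟨-1 + vecMulVec u ((2 / f u u) • dv f u), -1 + vecMulVec u ((2 / f u u) • dv f u),
      mat_ext fun x => by
        simp only [← mulVec_mulVec, add_mulVec, neg_mulVec, one_mulVec, vecMulVec_mulVec,
          op_smul_eq_smul, smul_dotProduct, dotProduct_add, dotProduct_neg, dotProduct_smul,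
          show ∀ y, dv f u ⬝ᵥ y = f y u from u_dot hf u, smul_eq_mul]
        match_scalars <;> field_simp
        ring,
      mat_ext fun x => by
        simp only [← mulVec_mulVec, add_mulVec, neg_mulVec, one_mulVec, vecMulVec_mulVec,
          op_smul_eq_smul, smul_dotProduct, dotProduct_add, dotProduct_neg, dotProduct_smul,
          show ∀ y, dv f u ⬝ᵥ y = f y u from u_dot hf u, smul_eq_mul]
        match_scalars <;> field_simp
        ring⟩

lemma hturn_mulVec {u : Fin 3 → F} (hu : f u u ≠ 0) (x : Fin 3 → F) :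
    (hturn hf u : Matrix (Fin 3) (Fin 3) F) *ᵥ x = -x + (2 * f x u / f u u) • u := by
  rw [hturn, dif_neg hu]
  simp only [add_mulVec, neg_mulVec, one_mulVec, vecMulVec_mulVec, op_smul_eq_smul, smul_dotProduct,
    show ∀ y, dv f u ⬝ᵥ y = f y u from u_dot hf u, smul_eq_mul]
  rw [div_mul_eq_mul_div]

lemma hturn_mem_iso {u : Fin 3 → F} (hu : f u u ≠ 0) : hturn hf u ∈ isoGrp f := by
  rw [mem_isoGrp]
  intro x y
  simp only [hturn_mulVec hf hu, u_add_left hf, u_add_right hf, u_neg_left hf, u_neg_right hf,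
    u_smul_left hf, u_smul_right hf, map_div₀, map_mul, map_ofNat, u_conj hf]
  field_simp
  ring

lemma hturn_mem_sl {u : Fin 3 → F} (hu : f u u ≠ 0) :
    hturn hf u ∈ Geo.specialLinear (Fin 3) F := by
  rw [mem_specialLinear_iff, hturn, dif_neg hu]
  show (-1 + vecMulVec u ((2 / f u u) • dv f u) : Matrix (Fin 3) (Fin 3) F).det = 1
  rw [show (-1 + vecMulVec u ((2 / f u u) • dv f u) : Matrix (Fin 3) (Fin 3) F) =
      -(1 + vecMulVec (-u) ((2 / f u u) • dv f u)) from mat_ext fun x => by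
    simp only [add_mulVec, neg_mulVec, one_mulVec, vecMulVec_mulVec, op_smul_eq_smul]
    module]
  rw [det_neg, vecMulVec_eq Unit, det_one_add_replicateCol_mul_replicateRow, smul_dotProduct,
    dotProduct_neg, show dv f u ⬝ᵥ u = f u u from u_dot hf u u, Fintype.card_fin, smul_eq_mul]
  field_simp
  ring

lemma hturn_smul {u : Fin 3 → F} (hu : f u u ≠ 0) {c : F} (hc : c ≠ 0) :
    hturn hf (c • u) = hturn hf u := by
  have hc' : σ c ≠ 0 := (map_ne_zero_iff σ σ.injective).2 hc
  have hu' : f (c • u) (c • u) ≠ 0 := by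
    rw [u_smul_left hf, u_smul_right hf]; exact mul_ne_zero hc (mul_ne_zero hc' hu)
  refine gl_ext fun x => ?_
  rw [hturn_mulVec hf hu, hturn_mulVec hf hu', u_smul_left hf, u_smul_right hf, u_smul_right hf,
    smul_smul]
  congr 2
  field_simp

lemma conj_hturn {g : GL (Fin 3) F} (hg : g ∈ isoGrp f) {u : Fin 3 → F} (hu : f u u ≠ 0) :
    g * hturn hf u * g⁻¹ = hturn hf ((g : Matrix (Fin 3) (Fin 3) F) *ᵥ u) := by
  refine gl_ext fun x => ?_
  have h' : f ((g : Matrix (Fin 3) (Fin 3) F) *ᵥ u) ((g : Matrix (Fin 3) (Fin 3) F) *ᵥ u) ≠ 0 := by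
    rw [mem_isoGrp.1 hg]; exact hu
  rw [mul_mulVec, mul_mulVec, hturn_mulVec hf hu, hturn_mulVec hf h', mulVec_add, mulVec_neg,
    mulVec_smul, mulVec_inv_mulVec, mem_isoGrp.1 hg]
  congr 2
  congr 1
  conv_rhs => rw [← mulVec_inv_mulVec g x]
  rw [mem_isoGrp.1 hg]

section core

variable {cj : (Fin 3 → F) → (Fin 3 → F)} (hC : IsConj σ f cj) {M : Subgroup (GL (Fin 3) F)}
  (hS : ∀ g : GL (Fin 3) F, g ∈ isoGrp f → g ∈ Geo.specialLinear (Fin 3) F →
    (∀ x, cj ((g : Matrix (Fin 3) (Fin 3) F) *ᵥ x) = (g : Matrix (Fin 3) (Fin 3) F) *ᵥ cj x) →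
    g ∈ M)
  (hMi : M ≤ isoGrp f) (K : Finset F) (hK : ∀ t ∈ K, σ t = t) (hKc : 7 ≤ K.card)

include hC in
/-- An element outside the stabiliser moves a rational anisotropic point to a general position. -/
lemma exists_moved (K : Finset F) (hK : ∀ t ∈ K, σ t = t) (hKc : 7 ≤ K.card) {g : GL (Fin 3) F}
    (hgi : g ∈ isoGrp f)
    (hgS : ¬ ∃ c : F, c ≠ 0 ∧ ∀ w, cj w = w →
      cj (c • ((g : Matrix (Fin 3) (Fin 3) F) *ᵥ w)) = c • ((g : Matrix (Fin 3) (Fin 3) F) *ᵥ w)) :
    ∃ v, cj v = v ∧ f v v ≠ 0 ∧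
      f ((g : Matrix (Fin 3) (Fin 3) F) *ᵥ v) (cj ((g : Matrix (Fin 3) (Fin 3) F) *ᵥ v)) ≠ 0 ∧
      ∀ c : F, cj ((g : Matrix (Fin 3) (Fin 3) F) *ᵥ v) ≠ c • ((g : Matrix (Fin 3) (Fin 3) F) *ᵥ v) := by
  classical
  by_contra hcon
  push Not at hcon
  set G := (g : Matrix (Fin 3) (Fin 3) F) with hG
  obtain ⟨x, hx, hGx⟩ : ∃ x, cj x = x ∧ f (G *ᵥ x) (cj (G *ᵥ x)) ≠ 0 := by
    by_contra h0
    push Not at h0
    obtain ⟨x, hx0, hx, -, -⟩ := hC.exists_rat_perp hf 0
    apply hx0
    rw [← inv_mulVec_mulVec g x, ← hG]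
    have : G *ᵥ x = 0 := by
      have hb : ∀ y, cj y = y → f (G *ᵥ x) (cj (G *ᵥ y)) = 0 := by
        intro y hy
        have h1 := h0 (x + y) (by rw [hC.add, hx, hy])
        rw [mulVec_add, hC.add, u_add_left hf, u_add_right hf, u_add_right hf, h0 x hx, h0 y hy,
          hC.swap hf (G *ᵥ y) (G *ᵥ x)] at h1
        have h2 : (2 : F) * f (G *ᵥ x) (cj (G *ᵥ y)) = 0 := by linear_combination h1
        exact (mul_eq_zero.1 h2).resolve_left hC.two
      by_contra hne
      obtain ⟨-, w, hw⟩ := hf.nondegenerate _ hne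
      apply hw
      obtain ⟨θ, a, b, -, -, ha, hb', hab⟩ :=
        hC.decomp hf (((g⁻¹ : GL (Fin 3) F) : Matrix (Fin 3) (Fin 3) F) *ᵥ cj w)
      rw [← hC.invol w, ← mulVec_inv_mulVec g (cj w), hab, ← hG, mulVec_add, mulVec_smul, hC.add,
        hC.smul, u_add_right hf, u_smul_right hf, hb a ha, hb b hb']
      ring
    rw [this, mulVec_zero]
  have hGx0 : G *ᵥ x ≠ 0 := fun h => hGx (by rw [h, u_zero_left hf])
  have hplane : ∀ y, cj y = y → (∀ c : F, y ≠ c • x) →
      ∃ a : F, cj (G *ᵥ x) = a • (G *ᵥ x) ∧ cj (G *ᵥ y) = a • (G *ᵥ y) := by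
    intro y hy hyx
    have hind : ∀ p r : F, p • (G *ᵥ x) + r • (G *ᵥ y) = 0 → p = 0 ∧ r = 0 := by
      intro p r h
      have h' : p • x + r • y = 0 := by
        have h1 := congrArg (fun v => ((g⁻¹ : GL (Fin 3) F) : Matrix (Fin 3) (Fin 3) F) *ᵥ v) h
        simpa [hG, mulVec_add, mulVec_smul, inv_mulVec_mulVec] using h1
      rcases eq_or_ne r 0 with rfl | hr
      · rw [zero_smul, add_zero] at h
        exact ⟨(smul_eq_zero.1 h).resolve_right hGx0, rfl⟩
      · refine absurd ?_ (hyx (-(r⁻¹ * p)))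
        rw [neg_smul, ← smul_smul, ← smul_neg, eq_inv_smul_iff₀ hr]
        exact eq_neg_of_add_eq_zero_right h'
    set G2 := f (G *ᵥ x) (cj (G *ᵥ x))
    set G1 := f (G *ᵥ x) (cj (G *ᵥ y)) + f (G *ᵥ y) (cj (G *ᵥ x))
    set G0 := f (G *ᵥ y) (cj (G *ᵥ y))
    set B₁ := K.filter fun t => G2 * t ^ 2 + G1 * t + G0 = 0
    set B₂ := K.filter fun t => f x x * t ^ 2 + 2 * f x y * t + f y y = 0
    have hB₁ : B₁.card ≤ 2 := card_quad_roots K fun h => hGx h.1
    have hB₂ : B₂.card ≤ 2 := by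
      refine card_quad_roots K fun ⟨h1, h2, h3⟩ => ?_
      have hyx' : f y x = 0 := by
        rw [hC.rat_comm hf hx hy]; exact (mul_eq_zero.1 h2).resolve_left hC.two
      obtain ⟨c, hc⟩ := iso_orth_dep hf (fun h => hGx0 (by rw [h, mulVec_zero])) h1 h3 hyx'
      exact hyx c hc
    have hgood : 2 < (K \ (B₁ ∪ B₂)).card := by
      have h1 := Finset.le_card_sdiff (B₁ ∪ B₂) K
      have h2 := Finset.card_union_le B₁ B₂
      omega
    obtain ⟨t₁, t₂, t₃, ht₁, ht₂, ht₃, h12, h13, h23⟩ := Finset.two_lt_card_iff.1 hgood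
    have heig : ∀ t ∈ K \ (B₁ ∪ B₂),
        ∃ c : F, cj (G *ᵥ y) + t • cj (G *ᵥ x) = c • (G *ᵥ y + t • (G *ᵥ x)) := by
      intro t ht
      simp only [Finset.mem_sdiff, Finset.mem_union, B₁, B₂, Finset.mem_filter, not_or, not_and] at ht
      obtain ⟨htK, hn1, hn2⟩ := ht
      have hst := hK t htK
      obtain ⟨c, hc⟩ := hcon (y + t • x) (by rw [hC.add, hC.smul, hst, hx, hy]) (fun h => hn2 htK (by
          rw [u_add_left hf, u_add_right hf, u_add_right hf, u_smul_left hf, u_smul_left hf,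
            u_smul_right hf, u_smul_right hf, hst, hC.rat_comm hf hx hy] at h
          linear_combination h)) (fun h => hn1 htK (by
          rw [mulVec_add, mulVec_smul, hC.add, hC.smul, hst, u_add_left hf, u_add_right hf,
            u_add_right hf, u_smul_left hf, u_smul_left hf, u_smul_right hf, u_smul_right hf,
            hst] at h
          linear_combination h))
      rw [mulVec_add, mulVec_smul, hC.add, hC.smul, hst] at hc
      exact ⟨c, hc⟩
    obtain ⟨c₁, e₁⟩ := heig t₁ ht₁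
    obtain ⟨c₂, e₂⟩ := heig t₂ ht₂
    obtain ⟨c₃, e₃⟩ := heig t₃ ht₃
    set A := G *ᵥ x
    set B := G *ᵥ y
    set a := (c₁ * t₁ - c₂ * t₂) / (t₁ - t₂) with ha
    set b := (c₁ - c₂) / (t₁ - t₂) with hb
    have ht : t₁ - t₂ ≠ 0 := sub_ne_zero.2 h12
    have hA : cj A = a • A + b • B := by
      have h : (t₁ - t₂) • cj A = (t₁ - t₂) • (a • A + b • B) := by
        rw [smul_add, smul_smul, smul_smul, ha, hb, mul_div_cancel₀ _ ht, mul_div_cancel₀ _ ht]
        linear_combination (norm := module) e₁ - e₂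
      exact smul_right_injective _ ht h
    set p := c₁ * t₁ - t₁ * a
    set r := c₁ - t₁ * b
    have hBB : cj B = p • A + r • B := by
      rw [hA] at e₁
      linear_combination (norm := module) e₁
    have heq : ∀ t c : F, cj B + t • cj A = c • (B + t • A) → b * t ^ 2 + (r - a) * t + -p = 0 := by
      intro t c h
      rw [hA, hBB] at h
      obtain ⟨h1, h2⟩ := hind (p + t * a - c * t) (r + t * b - c) (by
        linear_combination (norm := module) h)
      linear_combination t * h2 - h1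
    by_cases h0 : b = 0 ∧ r - a = 0 ∧ -p = 0
    · refine ⟨a, ?_, ?_⟩
      · rw [hA, h0.1, zero_smul, add_zero]
      · rw [hBB, neg_eq_zero.1 h0.2.2, zero_smul, zero_add, sub_eq_zero.1 h0.2.1]
    · have hle := card_quad_roots (K \ (B₁ ∪ B₂)) h0
      have hsub : ({t₁, t₂, t₃} : Finset F) ⊆
          (K \ (B₁ ∪ B₂)).filter fun t => b * t ^ 2 + (r - a) * t + -p = 0 := by
        intro t ht
        simp only [Finset.mem_insert, Finset.mem_singleton] at ht
        rcases ht with rfl | rfl | rfl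
        · exact Finset.mem_filter.2 ⟨ht₁, heq _ _ e₁⟩
        · exact Finset.mem_filter.2 ⟨ht₂, heq _ _ e₂⟩
        · exact Finset.mem_filter.2 ⟨ht₃, heq _ _ e₃⟩
      have h3 := Finset.card_le_card hsub
      rw [Finset.card_eq_three.2 ⟨t₁, t₂, t₃, h12, h13, h23, rfl⟩] at h3
      omega
  obtain ⟨y₀, hy₀, hy₀x⟩ := hC.exists_rat_outside hf x
  obtain ⟨a, hax, -⟩ := hplane y₀ hy₀ hy₀x
  have hall : ∀ w, cj w = w → cj (G *ᵥ w) = a • (G *ᵥ w) := by
    intro w hw
    by_cases hwx : ∃ c : F, w = c • x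
    · obtain ⟨c, rfl⟩ := hwx
      have hx0 : x ≠ 0 := fun h => hGx0 (by rw [h, mulVec_zero])
      have hc : σ c = c := by
        rw [hC.smul, hx] at hw
        exact smul_left_injective F hx0 hw
      rw [mulVec_smul, hC.smul, hc, hax, smul_comm]
    · push Not at hwx
      obtain ⟨b, hbx, hbw⟩ := hplane w hw hwx
      rw [hbw]
      congr 1
      rw [hax] at hbx
      exact (smul_left_injective F hGx0 hbx).symm
  have hnorm : a * σ a = 1 := by
    have h := congrArg cj hax
    rw [hC.invol, hC.smul, hax, smul_smul] at h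
    exact smul_left_injective F hGx0 (show (a * σ a) • (G *ᵥ x) = (1 : F) • (G *ᵥ x) by
      rw [one_smul, mul_comm]; exact h.symm)
  obtain ⟨l, hl0, hl⟩ : ∃ l : F, l ≠ 0 ∧ σ l * a = l := by
    obtain ⟨θ, hθ0, hθ⟩ := exists_skew_ne_zero hf
    by_cases ha : a = -1
    · exact ⟨θ, hθ0, by rw [ha, hθ]; ring⟩
    · refine ⟨1 + a, fun h => ha (by linear_combination h), ?_⟩
      rw [map_add, map_one]
      linear_combination hnorm
  exact hgS ⟨l, hl0, fun w hw => by rw [hC.smul, hall w hw, smul_smul, hl]⟩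

include hC hS in
lemma hturn_rat_mem {u : Fin 3 → F} (hu : f u u ≠ 0) (hru : cj u = u) : hturn hf u ∈ M := by
  refine hS _ (hturn_mem_iso hf hu) (hturn_mem_sl hf hu) fun x => ?_
  rw [hturn_mulVec hf hu, hturn_mulVec hf hu, hC.add, hC.neg, hC.smul, hru, map_div₀, map_mul,
    map_ofNat, hC.rat hf hru hru, ← hC.form, hru]

include hC hS hMi hK hKc in
/-- Reduction to a nonrational half-turn axis orthogonal to a rational isotropic vector. -/
lemma exists_axis {e : Fin 3 → F} (he0 : e ≠ 0) (hre : cj e = e) (he : f e e = 0)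
    {u : Fin 3 → F} (hu : f u u ≠ 0) (hB : f u (cj u) ≠ 0) (hnr : ∀ c : F, cj u ≠ c • u)
    (hum : hturn hf u ∈ M) :
    ∃ r u', r ≠ 0 ∧ cj r = r ∧ f r r = 0 ∧ f u' r = 0 ∧ f u' u' ≠ 0 ∧ (∀ c : F, cj u' ≠ c • u') ∧
      hturn hf u' ∈ M := by
  classical
  have hu0 : u ≠ 0 := fun h => hu (by rw [h, u_zero_left hf])
  obtain ⟨P, hP0, hrP, hPu, hPu'⟩ := hC.exists_rat_perp hf u
  by_cases hPP : f P P = 0
  · exact ⟨P, u, hP0, hrP, hPP, u_symm_zero hf hPu, hu, hnr, hum⟩
  obtain ⟨d, v, hrd, hrv, hd, hed, hve, hvd, hv⟩ := hC.exists_frame hf he0 hre he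
  have hde : f d e = 1 := by rw [← u_conj hf, hed, map_one]
  have hev : f e v = 0 := u_symm_zero hf hve
  have hdv : f d v = 0 := u_symm_zero hf hvd
  set n := f u u with hn
  set β := f u (cj u) with hβ
  have hnσ : σ n = n := u_conj hf u u
  have hu'u : f (cj u) u = σ β := by rw [hβ, u_conj hf]
  have hu'u' : f (cj u) (cj u) = n := by rw [hC.form, hnσ]
  have hind : ∀ p r : F, p • u + r • cj u = 0 → p = 0 ∧ r = 0 := by
    intro p r h
    rcases eq_or_ne r 0 with rfl | hr
    · rw [zero_smul, add_zero] at h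
      exact ⟨(smul_eq_zero.1 h).resolve_right hu0, rfl⟩
    · refine absurd ?_ (hnr (-(r⁻¹ * p)))
      rw [neg_smul, ← smul_smul, ← smul_neg, eq_inv_smul_iff₀ hr]
      exact eq_neg_of_add_eq_zero_right h
  have hperp : ∀ z, f z u = 0 → f z (cj u) = 0 → ∃ c : F, z = c • P := by
    intro z h1 h2
    have hind3 : ∀ p r s : F, p • u + r • cj u + s • P = 0 → p = 0 ∧ r = 0 ∧ s = 0 := by
      intro p r s h
      have h3 := congrArg (fun w => f w P) h
      simp only [u_add_left hf, u_smul_left hf, u_symm_zero hf hPu, u_symm_zero hf hPu',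
        u_zero_left hf, mul_zero, zero_add] at h3
      have hs := (mul_eq_zero.1 h3).resolve_right hPP
      rw [hs, zero_smul, add_zero] at h
      exact ⟨(hind p r h).1, (hind p r h).2, hs⟩
    refine ⟨f z P / f P P, ?_⟩
    rw [← sub_eq_zero]
    by_contra hne
    obtain ⟨-, w, hw⟩ := hf.nondegenerate _ hne
    obtain ⟨p, r, s, rfl⟩ := exists_coeff hind3 w
    apply hw
    simp only [u_add_right hf, u_smul_right hf, u_sub_left hf, u_smul_left hf, h1, h2, hPu, hPu',
      div_mul_cancel₀ _ hPP, mul_zero, sub_zero, sub_self, add_zero]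
  -- the bad conjugates
  let Z : Finset F := Finset.univ.filter fun z =>
    n * σ β * z ^ 2 + 2 * (β * σ β) * z + n * β = 0
  have hZ : Z.card ≤ 2 := card_quad_roots _ fun h =>
    mul_ne_zero hu ((map_ne_zero_iff σ σ.injective).2 hB) h.1
  let bv : F → (Fin 3 → F) := fun z => (1 + 2 * σ β * z / n) • u + (-z) • cj u
  let Bs : Finset (Fin 3 → F) := insert P (Z.image bv)
  have hBs0 : ∀ b ∈ Bs, b ≠ 0 := by
    intro b hb
    simp only [Bs, Finset.mem_insert, Finset.mem_image] at hb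
    rcases hb with rfl | ⟨z, -, rfl⟩
    · exact hP0
    · intro h
      obtain ⟨h1, h2⟩ := hind _ _ h
      rw [neg_eq_zero.1 h2, mul_zero, zero_div, add_zero] at h1
      exact one_ne_zero h1
  let rt : F → (Fin 3 → F) := fun t => d + t • v + (-(t ^ 2 * f v v / 2)) • e
  have hbad : ∀ b ∈ Bs, (K.filter fun t => f (rt t) b = 0).card ≤ 2 := by
    intro b hb
    have h : (K.filter fun t => f (rt t) b = 0) =
        K.filter fun t => -(f v v / 2 * f e b) * t ^ 2 + f v b * t + f d b = 0 := by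
      refine Finset.filter_congr fun t _ => ?_
      simp only [rt, u_add_left hf, u_smul_left hf]
      constructor <;> intro h <;> linear_combination h
    rw [h]
    refine card_quad_roots _ fun ⟨h1, h2, h3⟩ => hBs0 b hb ?_
    have h1' : f e b = 0 := (mul_eq_zero.1 (neg_eq_zero.1 h1)).resolve_left
      (div_ne_zero hv hC.two)
    rw [expand hf he hd hed hve hvd hv b, u_symm_zero hf h1', u_symm_zero hf h2, u_symm_zero hf h3]
    simp
  obtain ⟨t, htK, ht⟩ : ∃ t ∈ K, ∀ b ∈ Bs, f (rt t) b ≠ 0 := by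
    by_contra hcon
    push Not at hcon
    have hsub : K ⊆ Bs.biUnion fun b => K.filter fun t => f (rt t) b = 0 := by
      intro t ht
      obtain ⟨b, hb, hb'⟩ := hcon t ht
      exact Finset.mem_biUnion.2 ⟨b, hb, Finset.mem_filter.2 ⟨ht, hb'⟩⟩
    have h1 := (Finset.card_le_card hsub).trans (Finset.card_biUnion_le_card_mul _ _ 2 hbad)
    have h2 : Bs.card ≤ 3 := (Finset.card_insert_le _ _).trans
      (Nat.succ_le_succ (Finset.card_image_le.trans hZ))
    omega
  have hst := hK t htK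
  set r := rt t with hr
  have hsv : σ (f v v) = f v v := u_conj hf v v
  have hrr : cj r = r := by
    simp only [hr, rt, hC.add, hC.smul, hrd, hrv, hre, map_neg, map_div₀, map_mul, map_pow, hst,
      hsv, map_ofNat]
  have hr0 : r ≠ 0 := fun h => by
    have h1 := congrArg (fun w => f w e) h
    simp only [hr, rt, u_add_left hf, u_smul_left hf, hde, hve, he, u_zero_left hf, mul_zero,
      add_zero] at h1
    exact one_ne_zero h1
  have hiso : f r r = 0 := by
    simp only [hr, rt, u_add_left hf, u_add_right hf, u_smul_left hf, u_smul_right hf, hd, hed, hde,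
      hve, hvd, hev, hdv, he, map_neg, map_div₀, map_mul, map_pow, hst, hsv, map_ofNat]
    have h2 := hC.two
    field_simp
    ring
  have hinv : ∀ x, (hturn hf u : Matrix (Fin 3) (Fin 3) F) *ᵥ
      ((hturn hf u : Matrix (Fin 3) (Fin 3) F) *ᵥ x) = x := by
    intro x
    rw [hturn_mulVec hf hu, hturn_mulVec hf hu, u_add_left hf, u_neg_left hf, u_smul_left hf,
      div_mul_cancel₀ _ hu]
    match_scalars <;> field_simp
    ring
  set w := (hturn hf u : Matrix (Fin 3) (Fin 3) F) *ᵥ r with hw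
  obtain ⟨a, ha0, hra, haw, -⟩ := hC.exists_rat_perp hf w
  set u' := (hturn hf u : Matrix (Fin 3) (Fin 3) F) *ᵥ a with hu'
  have hui := mem_isoGrp.1 (hturn_mem_iso hf hu)
  have hu'r : f u' r = 0 := by
    rw [← hinv r, ← hw, hu', hui]
    exact haw
  have hnr' : ∀ c : F, cj u' ≠ c • u' := by
    intro c hc
    by_cases hau : f a u = 0
    · obtain ⟨k, hk⟩ := hperp a hau (by
        have h := hC.form_left a u
        rw [hra, hau] at h
        exact (map_eq_zero_iff σ σ.injective).1 h.symm)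
      have hk0 : k ≠ 0 := fun h => ha0 (by rw [hk, h, zero_smul])
      refine ht P (Finset.mem_insert_self _ _) ?_
      rw [hu', hturn_mulVec hf hu, hau, mul_zero, zero_div, zero_smul, add_zero, u_neg_left hf,
        neg_eq_zero, hk, u_smul_left hf] at hu'r
      exact u_symm_zero hf ((mul_eq_zero.1 hu'r).resolve_left hk0)
    · set k := 2 * f a u / n with hk
      have hk0 : k ≠ 0 := div_ne_zero (mul_ne_zero hC.two hau) hu
      have hu'e : u' = -a + k • u := hturn_mulVec hf hu a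
      have h1 : -a + σ k • cj u = c • (-a + k • u) := by
        rw [← hu'e, ← hc, hu'e, hC.add, hC.neg, hC.smul, hra]
      have hc1 : c - 1 ≠ 0 := by
        intro h
        rw [sub_eq_zero.1 h, one_smul, add_right_inj] at h1
        exact hk0 (neg_eq_zero.1 (hind (-k) (σ k) (by rw [h1, neg_smul, neg_add_cancel])).1)
      set α := c * k / (c - 1) with hα
      set γ := -σ k / (c - 1) with hγ
      have haα : a = α • u + γ • cj u := by
        have h : (c - 1) • a = (c - 1) • (α • u + γ • cj u) := by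
          rw [smul_add, smul_smul, smul_smul, hα, hγ, mul_div_cancel₀ _ hc1, mul_div_cancel₀ _ hc1]
          linear_combination (norm := module) h1
        exact smul_right_injective _ hc1 h
      clear_value α γ
      have hγα : γ = σ α := by
        have h := congrArg cj haα
        rw [hra, hC.add, hC.smul, hC.smul, hC.invol] at h
        obtain ⟨-, h2⟩ := hind (α - σ γ) (γ - σ α) (by
          linear_combination (norm := module) h - haα)
        exact sub_eq_zero.1 h2
      have hα0 : α ≠ 0 := fun h => ha0 (by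
        rw [haα, hγα, h, map_zero, zero_smul, zero_smul, add_zero])
      have hfau : f a u = α * n + σ α * σ β := by
        rw [haα, hγα, u_add_left hf, u_smul_left hf, u_smul_left hf, hu'u]
      set A := α + 2 * (σ α * σ β) / n with hA
      have hu'A : u' = A • u + (-σ α) • cj u := by
        rw [hu'e, hk, hfau, haα, hγα, hA]
        match_scalars
        · field_simp; ring
        · ring
      have h2 : σ (-σ α) = c * A ∧ σ A = c * (-σ α) := by
        have h := hc
        rw [hu'A, hC.add, hC.smul, hC.smul, hC.invol] at h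
        obtain ⟨h3, h4⟩ := hind (σ (-σ α) - c * A) (σ A - c * (-σ α)) (by
          linear_combination (norm := module) h)
        exact ⟨sub_eq_zero.1 h3, sub_eq_zero.1 h4⟩
      rw [map_neg, u_inv hf] at h2
      have hσA : σ A = σ α + 2 * (α * β) / n := by
        rw [hA, map_add, map_div₀, map_mul, map_mul, map_ofNat, u_inv hf, u_inv hf, hnσ]
      have hkey : A * σ A - σ α * α = 0 := by linear_combination A * h2.2 + σ α * h2.1
      set z := σ α / α with hz
      have hzZ : z ∈ Z := by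
        refine Finset.mem_filter.2 ⟨Finset.mem_univ _, ?_⟩
        rw [hσA, hA] at hkey
        have h2' := hC.two
        field_simp at hkey
        rw [hz]
        field_simp
        have h3 : (2 : F) * (n * σ β * σ α ^ 2 + 2 * (β * σ β) * σ α * α + n * β * α ^ 2) = 0 := by
          linear_combination hkey
        linear_combination (mul_eq_zero.1 h3).resolve_left h2'
      have hu'b : u' = α • bv z := by
        rw [hu'A, hA, hz]
        simp only [bv]
        match_scalars <;> field_simp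
      refine ht (bv z) (Finset.mem_insert_of_mem (Finset.mem_image_of_mem _ hzZ)) ?_
      rw [hu'b, u_smul_left hf] at hu'r
      exact u_symm_zero hf ((mul_eq_zero.1 hu'r).resolve_left hα0)
  have haa : f a a ≠ 0 := by
    intro h
    have hww : f w w = 0 := by rw [hw, hui, hiso]
    obtain ⟨c, hc⟩ := iso_orth_dep hf ha0 h hww (u_symm_zero hf haw)
    have hc0 : c ≠ 0 := fun h0 => hr0 (by
      rw [← hinv r, ← hw, hc, h0, zero_smul, mulVec_zero])
    have hu'c : u' = c⁻¹ • r := by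
      rw [← hinv r, ← hw, hc, mulVec_smul, inv_smul_smul₀ hc0]
    refine hnr' (σ c⁻¹ / c⁻¹) ?_
    rw [hu'c, hC.smul, hrr, smul_smul, div_mul_cancel₀ _ (inv_ne_zero hc0)]
  refine ⟨r, u', hr0, hrr, hiso, hu'r, by rw [hu', hui]; exact haa, hnr', ?_⟩
  rw [hu', ← conj_hturn hf (hturn_mem_iso hf hu) haa]
  exact M.mul_mem (M.mul_mem hum (hturn_rat_mem hf hC hS haa hra)) (M.inv_mem hum)

include hC hS hMi hK hKc in
/-- The core: such a subgroup contains all transvections. -/
lemma utIn_all_orth {e₀ : Fin 3 → F} (he₀0 : e₀ ≠ 0) (hre₀ : cj e₀ = e₀) (he₀ : f e₀ e₀ = 0)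
    {g : GL (Fin 3) F} (hg : g ∈ M)
    (hgS : ¬ ∃ c : F, c ≠ 0 ∧ ∀ w, cj w = w →
      cj (c • ((g : Matrix (Fin 3) (Fin 3) F) *ᵥ w)) = c • ((g : Matrix (Fin 3) (Fin 3) F) *ᵥ w))
    {y : Fin 3 → F} (hy : f y y = 0) : UtIn hf M y := by
  have hgi := hMi hg
  obtain ⟨v₀, hv₀r, hv₀, hB₀, hnr₀⟩ := exists_moved hf hC K hK hKc hgi hgS
  obtain ⟨e, u, he0, hre, he, hue, huu, hnr, hum⟩ := exists_axis hf hC hS hMi K hK hKc he₀0 hre₀ he₀
    (u := (g : Matrix (Fin 3) (Fin 3) F) *ᵥ v₀) (by rw [mem_isoGrp.1 hgi]; exact hv₀) hB₀ hnr₀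
    (by
      rw [← conj_hturn hf hgi hv₀]
      exact M.mul_mem (M.mul_mem hg (hturn_rat_mem hf hC hS hv₀ hv₀r)) (M.inv_mem hg))
  obtain ⟨d, v, hrd, hrv, hd, hed, hve, hvd, hv⟩ := hC.exists_frame hf he0 hre he
  have h2 := hC.two
  have hde : f d e = 1 := by rw [← u_conj hf, hed, map_one]
  have hev : f e v = 0 := u_symm_zero hf hve
  have hdv : f d v = 0 := u_symm_zero hf hvd
  set ν := f v v with hν
  have hνσ : σ ν = ν := u_conj hf v v
  -- normalise the axis
  have hu' := expand hf he hd hed hve hvd hv u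
  rw [hue, zero_smul, add_zero] at hu'
  set γ := f u v / ν with hγ
  set a := f u d with ha
  have hγ0 : γ ≠ 0 := by
    intro h
    apply huu
    rw [hu', h, zero_smul, add_zero, u_smul_left hf, u_smul_right hf, he]; ring
  set α := a / γ with hα
  set u₁ := v + α • e with hu₁
  have huγ : u = γ • u₁ := by
    rw [hu₁, hα, smul_add, smul_smul, mul_div_cancel₀ _ hγ0, add_comm]
    exact hu'
  have hu₁u₁ : f u₁ u₁ = ν := by
    simp only [hu₁, u_add_left hf, u_add_right hf, u_smul_left hf, u_smul_right hf, hve, hev, he]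
    ring
  have hum₁ : hturn hf u₁ ∈ M := by
    rw [← hturn_smul hf (u := u₁) (by rw [hu₁u₁]; exact hv) hγ0, ← huγ]; exact hum
  have hαns : σ α ≠ α := by
    intro h
    refine hnr (σ γ / γ) ?_
    rw [huγ, hC.smul, hu₁, hC.add, hC.smul, h, hre, hrv, smul_smul, div_mul_cancel₀ _ hγ0]
  clear_value α
  set c := -(2 * σ α) / ν with hc
  have hcσ : σ c = -(2 * α) / ν := by
    rw [hc, map_div₀, map_neg, map_mul, map_ofNat, u_inv hf, hνσ]
  clear_value c
  have hok₁ : EichOK hf e (c • v) (-(c * σ c * ν) / 2) := by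
    refine ⟨he, by rw [u_smul_left hf, hve, mul_zero], ?_⟩
    rw [u_smul_left hf, u_smul_right hf, map_div₀, map_neg, map_mul, map_mul, u_inv hf, hνσ,
      map_ofNat, ← hν]
    field_simp
    ring
  have hE₁ : ue hf e (c • v) (-(c * σ c * ν) / 2) ∈ M := by
    have h := M.mul_mem hum₁ (hturn_rat_mem hf hC hS hv hrv)
    convert h using 1
    refine gl_ext fun x => ?_
    rw [ue_mulVec hf hok₁, mul_mulVec, hturn_mulVec hf hv,
      hturn_mulVec hf (u := u₁) (by rw [hu₁u₁]; exact hv), hu₁u₁]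
    simp only [hu₁, u_add_left hf, u_add_right hf, u_neg_left hf, u_smul_left hf, u_smul_right hf,
      hve, hev, ← hν, hcσ]
    rw [hc]
    match_scalars <;> field_simp <;> ring
  have hratE : ∀ w : Fin 3 → F, cj w = w → f w e = 0 →
      EichOK hf e w (-f w w / 2) ∧ ue hf e w (-f w w / 2) ∈ M := by
    intro w hw hwe
    have hs : σ (-f w w / 2) = -f w w / 2 := by
      rw [map_div₀, map_neg, u_conj hf, map_ofNat]
    have hok : EichOK hf e w (-f w w / 2) := by
      refine ⟨he, hwe, ?_⟩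
      rw [hs]; field_simp; ring
    refine ⟨hok, hS _ (ue_mem_iso hf hok) (ue_mem_sl hf _ _ _) fun x => ?_⟩
    simp only [ue_mulVec hf hok, hC.add, hC.smul, map_sub, map_mul, hs, hw, hre]
    simp only [← hC.form, hw, hre]
  obtain ⟨hok₂, hE₂⟩ := hratE v hrv hve
  set δ := (c - σ c) * ν with hδ
  have hδm : ut hf e δ ∈ M := by
    have h := M.mul_mem (M.mul_mem hE₁ hE₂) (M.inv_mem (M.mul_mem hE₂ hE₁))
    convert h using 1
    rw [eq_mul_inv_iff_mul_eq, ue_mul hf hok₁ hok₂, ue_mul hf hok₂ hok₁]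
    refine gl_ext fun x => ?_
    rw [mul_mulVec, ut_mulVec hf he, ue_mulVec hf (hok₂.add hf hok₁), ue_mulVec hf (hok₁.add hf hok₂)]
    simp only [u_add_left hf, u_add_right hf, u_smul_left hf, u_smul_right hf, he, hve, ← hν, hδ]
    module
  have hδs : σ δ = -δ := by rw [hδ, map_mul, map_sub, u_inv hf, hνσ]; ring
  have hδ0 : δ ≠ 0 := by
    refine mul_ne_zero (sub_ne_zero.2 fun h => hαns ?_) hv
    rw [hcσ, hc, div_left_inj' hv, neg_inj] at h
    exact mul_left_cancel₀ h2 h
  -- rational half-turns in the hyperbolic plane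
  have hpl : ∀ k : F, σ k = k → k ≠ 0 → hturn hf (e + k • d) ∈ M ∧
      (hturn hf (e + k • d) : Matrix (Fin 3) (Fin 3) F) *ᵥ e = k • d ∧
      (hturn hf (e + k • d) : Matrix (Fin 3) (Fin 3) F) *ᵥ d = k⁻¹ • e := by
    intro k hk hk0
    have hfk : f (e + k • d) (e + k • d) = 2 * k := by
      simp only [u_add_left hf, u_add_right hf, u_smul_left hf, u_smul_right hf, he, hd, hed, hde, hk]
      ring
    have hne : f (e + k • d) (e + k • d) ≠ 0 := by rw [hfk]; exact mul_ne_zero h2 hk0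
    refine ⟨hturn_rat_mem hf hC hS hne (by rw [hC.add, hC.smul, hk, hre, hrd]), ?_, ?_⟩
    · rw [hturn_mulVec hf hne, hfk]
      simp only [u_add_right hf, u_smul_right hf, he, hed, hk]
      match_scalars <;> field_simp <;> ring
    · rw [hturn_mulVec hf hne, hfk]
      simp only [u_add_right hf, u_smul_right hf, hd, hde, hk]
      match_scalars <;> field_simp <;> ring
  obtain ⟨hh₁, hh₁e, -⟩ := hpl 1 (map_one σ) one_ne_zero
  rw [one_smul] at hh₁e
  rw [one_smul] at hh₁
  have hTe : UtIn hf M e := by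
    intro l hl
    have hsq : ∀ s : F, σ s = s → ut hf e (δ * s ^ 2) ∈ M := by
      intro s hs
      rcases eq_or_ne s 0 with rfl | hs0
      · rw [zero_pow two_ne_zero, mul_zero, Symplectic.ut_zero hf e he]; exact M.one_mem
      obtain ⟨hh₂, hh₂e, -⟩ := hpl s hs hs0
      have hh₁d : (hturn hf (e + d) : Matrix (Fin 3) (Fin 3) F) *ᵥ d = e := by
        have := (hpl 1 (map_one σ) one_ne_zero).2.2
        simpa using this
      set h := hturn hf (e + d) * hturn hf (e + s • d)
      have hhm : h ∈ M := M.mul_mem hh₁ hh₂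
      have hhe : (h : Matrix (Fin 3) (Fin 3) F) *ᵥ e = s • e := by
        rw [mul_mulVec, hh₂e, mulVec_smul, hh₁d]
      have h' := M.mul_mem (M.mul_mem hhm hδm) (M.inv_mem hhm)
      rwa [conj_ut hf (hMi hhm) he, hhe, Symplectic.ut_smul_vec hf he, hs, ← sq] at h'
    set k := l / δ with hk
    have hkσ : σ k = k := by rw [hk, map_div₀, hl, hδs, neg_div_neg_eq]
    have hl' : l = δ * ((k + 1) / 2) ^ 2 + -(δ * ((k - 1) / 2) ^ 2) := by
      rw [hk]; field_simp; ring
    rw [hl', ← ut_add hf he, ← Symplectic.ut_inv hf he]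
    exact M.mul_mem (hsq _ (by rw [map_div₀, map_add, hkσ, map_one, map_ofNat]))
      (M.inv_mem (hsq _ (by rw [map_div₀, map_sub, hkσ, map_one, map_ofNat])))
  have hTd : UtIn hf M d := by
    rw [← hh₁e]; exact hTe.conj hf he hh₁ (hMi hh₁)
  have hTx := hTd.conj hf hd hE₂ (hMi hE₂)
  rw [ue_mulVec hf hok₂] at hTx
  refine utIn_all_of_pair hf he hd hed hve hvd hv hTe hTd (x := d + v + (-ν / 2) • e) ?_ ?_ ?_ hy
  · simp only [u_add_left hf, u_add_right hf, u_smul_left hf, u_smul_right hf, hd, hed, hde, hve, hvd,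
      hev, hdv, he, map_div₀, map_neg, hνσ, map_ofNat, ← hν]
    field_simp
    ring
  · convert hTx using 1
    rw [hde, hdv, ← hν]
    simp
  · simp only [u_add_left hf, u_smul_left hf, hdv, hev, ← hν, mul_zero, zero_add, add_zero]
    exact hv

end core

omit hf in
/-- Clause (6). -/
theorem orth_subfield_maximal_three {F : Type*} [Field F] [Fintype F] (q : ℕ)
    (hF : Fintype.card F = q ^ 2) (hodd : Odd q) (hq7 : 7 ≤ q) (F₀ : Subfield F)
    (P : GL (Fin 3) F) (hcard : Fintype.card F = Nat.card F₀ ^ 2)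
    (hP : Geo.IsFormRationalStructure (Cfsg.hermForm 3 F q) F₀ 1 P) :
    Geo.IsMaximalIn (Cfsg.GU 3 F q ⊓ Geo.specialLinear (Fin 3) F)
      (Geo.subfieldSubgroup F₀ P ⊓ (Cfsg.GU 3 F q ⊓ Geo.specialLinear (Fin 3) F)) := by
  classical
  obtain ⟨σ, hσ, hf⟩ := Cfsg.Agent.Symplectic.isUnitaryForm_hermForm (n := 3) hF
  set f := Cfsg.hermForm 3 F q with hfdef
  have hq : Nat.card F₀ = q := Nat.pow_left_injective two_ne_zero (hcard.symm.trans hF)
  have hfix : F₀ = Unitary.fixK hF := by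
    refine SetLike.coe_injective (Set.eq_of_subset_of_ncard_le (fun x hx => ?_) ?_ (Set.toFinite _))
    · rw [SetLike.mem_coe, Unitary.mem_fixK]
      letI := Fintype.ofFinite F₀
      have := FiniteField.pow_card (⟨x, hx⟩ : F₀)
      rw [← Nat.card_eq_fintype_card, hq] at this
      exact congrArg Subtype.val this
    · rw [← Nat.card_coe_set_eq, ← Nat.card_coe_set_eq]
      exact ((Unitary.card_fixK hF).le.trans hq.ge)
  have h2 : (2 : F) ≠ 0 := Ring.two_ne_zero fun h => by
    have h1 := FiniteField.even_card_iff_char_two.1 h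
    have h3 : Odd (Fintype.card F) := hF ▸ hodd.pow
    rw [Nat.odd_iff] at h3
    omega
  have hfixσ : ∀ x, σ x = x ↔ x ∈ F₀ := fun x => by rw [hσ, hfix, Unitary.mem_fixK]
  obtain ⟨R, hR⟩ := Cfsg.Agent.H98.UnitaryOrth.exists_oRat (F₀ := F₀) hf h2 hfixσ P fun u hu v hv => by
    have := hP _ _ hu hv
    rwa [Cfsg.Agent.H98.SubfieldOrth.mul_inv_vec, Cfsg.Agent.H98.SubfieldOrth.mul_inv_vec,
      one_mul] at this
  set Pm := (P : Matrix (Fin 3) (Fin 3) F)
  set Pi' := ((P⁻¹ : GL (Fin 3) F) : Matrix (Fin 3) (Fin 3) F)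
  let cj : (Fin 3 → F) → (Fin 3 → F) := fun x => Pm *ᵥ fun i => σ ((Pi' *ᵥ x) i)
  have hmem : ∀ x, cj x = x ↔ x ∈ R.V₀ := fun x => by
    rw [hR]
    refine ⟨fun h i => (hfixσ _).1 ?_, fun h => ?_⟩
    · have h' := congrFun (congrArg (fun w => Pi' *ᵥ w) h) i
      simpa [cj, Pm, Pi', inv_mulVec_mulVec] using h'
    · simp only [cj]
      rw [show (fun i => σ ((Pi' *ᵥ x) i)) = Pi' *ᵥ x from funext fun i => (hfixσ _).2 (h i)]
      exact mulVec_inv_mulVec P x
  have hadd : ∀ x y, cj (x + y) = cj x + cj y := fun x y => by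
    simp only [cj, mulVec_add, Pi.add_apply, map_add]
    rw [← mulVec_add]; rfl
  have hsmul : ∀ (c : F) x, cj (c • x) = σ c • cj x := fun c x => by
    simp only [cj, mulVec_smul, Pi.smul_apply, smul_eq_mul, map_mul]
    rw [← mulVec_smul]; rfl
  have hinvol : ∀ x, cj (cj x) = x := fun x => by
    simp only [cj, Pm, Pi', inv_mulVec_mulVec, u_inv hf, mulVec_inv_mulVec]
  have hC : IsConj σ f cj := by
    refine ⟨hadd, hsmul, hinvol, fun x y => ?_, h2⟩
    obtain ⟨θ, hθ0, hθ⟩ := exists_skew_ne_zero hf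
    obtain ⟨a, b, rfl⟩ := R.exists_decomp hθ hθ0 x
    obtain ⟨a', b', rfl⟩ := R.exists_decomp hθ hθ0 y
    simp only [hadd, hsmul, (hmem _).2 (Subtype.mem _), hθ, u_add_left hf, u_add_right hf,
      u_smul_left hf, u_smul_right hf, map_add, map_mul, map_neg, R.sigma_f]
  have hstab : ∀ g : GL (Fin 3) F, g ∈ Geo.subfieldSubgroup F₀ P ↔ ∃ c : F, c ≠ 0 ∧ ∀ w, cj w = w →
      cj (c • ((g : Matrix (Fin 3) (Fin 3) F) *ᵥ w)) = c • ((g : Matrix (Fin 3) (Fin 3) F) *ᵥ w) := by
    intro g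
    rw [Cfsg.Agent.H98.SubfieldOrth.mem_subfieldSubgroup_iff, ← hR]
    constructor
    · rintro ⟨c, hc, h⟩
      exact ⟨c⁻¹, inv_ne_zero hc, fun w hw => (hmem _).2 (h w ((hmem w).1 hw))⟩
    · rintro ⟨c, hc, h⟩
      exact ⟨c⁻¹, inv_ne_zero hc, fun w hw => by
        rw [inv_inv]; exact (hmem _).1 (h w ((hmem w).2 hw))⟩
  have hdim : Module.finrank F₀ R.V₀ = 3 := R.finrank_eq.trans (Fintype.card_fin 3)
  have := R.finiteDimensional
  obtain ⟨e₀, he₀0, he₀q⟩ := R.nondeg.exists_singular (by omega)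
  set e := (e₀ : Fin 3 → F) with hedef
  have hre : cj e = e := (hmem _).2 e₀.2
  have he : f e e = 0 := R.iso_of he₀q
  have he0 : e ≠ 0 := fun h => he₀0 (Subtype.ext h)
  refine ⟨lt_of_le_not_ge inf_le_right fun h => ?_, fun M hM hMG => ?_⟩
  · obtain ⟨d, v, hrd, -, hd, hed, -, -, -⟩ := hC.exists_frame hf he0 hre he
    obtain ⟨θ, hθ0, hθ⟩ := exists_skew_ne_zero hf
    obtain ⟨c, hc, hcw⟩ := (hstab _).1
      (h (⟨ut_mem_iso hf he hθ, ut_mem_sl hf e θ⟩ :
        ut hf e θ ∈ Cfsg.GU 3 F q ⊓ Geo.specialLinear (Fin 3) F)).1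
    have hde : f d e = 1 := by rw [← u_conj hf, hed, map_one]
    have h1 := hcw e hre
    have h3 := hcw d hrd
    rw [ut_mulVec hf he, he, mul_zero, zero_smul, add_zero, hsmul, hre] at h1
    rw [ut_mulVec hf he, hde, mul_one, hsmul, hadd, hsmul, hrd, hre, hθ] at h3
    have hcc : σ c = c := smul_left_injective F he0 h1
    rw [hcc] at h3
    have h4 := congrArg (fun w => f w d) (smul_right_injective (Fin 3 → F) hc h3)
    simp only [u_add_left hf, u_smul_left hf, hd, hed, mul_one, zero_add] at h4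
    exact mul_ne_zero h2 hθ0 (by linear_combination -h4)
  by_cases hMS : M ≤ Geo.subfieldSubgroup F₀ P
  · exact Or.inl (le_antisymm (le_inf hMS hMG) hM)
  obtain ⟨g, hgM, hgS⟩ := SetLike.not_le_iff_exists.1 hMS
  have hMi : M ≤ isoGrp f := fun m hm => (hMG hm).1
  have hS : ∀ g : GL (Fin 3) F, g ∈ isoGrp f → g ∈ Geo.specialLinear (Fin 3) F →
      (∀ x, cj ((g : Matrix (Fin 3) (Fin 3) F) *ᵥ x) = (g : Matrix (Fin 3) (Fin 3) F) *ᵥ cj x) →
      g ∈ M := fun g hgi hgs hg =>
    hM ⟨(hstab g).2 ⟨1, one_ne_zero, fun w hw => by rw [one_smul, hg, hw]⟩, hgi, hgs⟩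
  have hKmem : ∀ t ∈ Finset.univ.filter (fun t : F => σ t = t), σ t = t :=
    fun t ht => (Finset.mem_filter.1 ht).2
  have hKc : 7 ≤ (Finset.univ.filter fun t : F => σ t = t).card := by
    have : (Finset.univ.filter fun t : F => σ t = t).card = Nat.card F₀ := by
      rw [Nat.card_eq_fintype_card, Fintype.card_of_subtype]
      intro x
      rw [Finset.mem_filter, hfixσ]
      simp
    omega
  exact Or.inr (le_antisymm hMG (su_le_of_ut_three hf hF (by omega) hσ hfdef fun y hy =>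
    utIn_all_orth hf hC hS hMi _ hKmem hKc he0 hre he hgM (fun h => hgS ((hstab g).2 h)) hy))

end Cfsg.Agent.H36.SUThreeGeo
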