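import Cfsg.Agent.H36.SUThreeGeo.Basic
import Cfsg.Agent.S5653

/-!
Stabilisers of isotropic and of non-degenerate points are maximal in `SU₃(q)`, `q ≥ 3`.
-/

set_option autoImplicit false

open Cfsg

namespace Cfsg.Agent.H36.SUThreeGeo

open scoped MatrixGroups Matrix
open Matrix
open Cfsg.Agent.H95 hiding exists_aniso_perp3 exists_isotropic
open Cfsg.Agent.Symplectic (ut ut_mulVec ut_mem_iso ut_mem_sl UtIn isUnitaryForm_hermForm)
open Cfsg.Agent.H36.SLThreeForms (expand exists_third exists_iso_comb)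

set_option linter.unusedSectionVars false

/-- Clause (1). -/
theorem isotropic_point_maximal_three {F : Type*} [Field F] [Fintype F] (q : ℕ)
    (hF : Fintype.card F = q ^ 2) (hq : 3 ≤ q) (W : Submodule F (Fin 3 → F)) (hW0 : W ≠ ⊥)
    (hW : Geo.IsTotallySingularFor (Cfsg.hermForm 3 F q) W) :
    Geo.IsMaximalIn (Cfsg.GU 3 F q ⊓ Geo.specialLinear (Fin 3) F)
      (Geo.subspaceStabilizer W ⊓ (Cfsg.GU 3 F q ⊓ Geo.specialLinear (Fin 3) F)) := by
  obtain ⟨σ, hσ, hf⟩ := isUnitaryForm_hermForm (n := 3) hF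
  exact Cfsg.Agent.S5653.main hF hf _ rfl
    (fun M h => su_le_of_ut_three hf hF hq hσ rfl h) W hW0 hW

/-- Clause (2). -/
theorem nondeg_point_maximal_three {F : Type*} [Field F] [Fintype F] (q : ℕ)
    (hF : Fintype.card F = q ^ 2) (hq : 3 ≤ q) (W : Submodule F (Fin 3 → F)) (hW0 : W ≠ ⊥)
    (hW : Geo.IsNondegenerateOn (Cfsg.hermForm 3 F q) W) (hdim : 2 * Module.finrank F W < 3) :
    Geo.IsMaximalIn (Cfsg.GU 3 F q ⊓ Geo.specialLinear (Fin 3) F)
      (Geo.subspaceStabilizer W ⊓ (Cfsg.GU 3 F q ⊓ Geo.specialLinear (Fin 3) F)) := by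
  obtain ⟨σ, hσ, hf⟩ := isUnitaryForm_hermForm (n := 3) hF
  set f := Cfsg.hermForm 3 F q with hfdef
  obtain ⟨w, hwW, hw0⟩ := W.exists_mem_ne_zero_of_ne_bot hW0
  have hpos : 0 < Module.finrank F W := Nat.pos_of_ne_zero (by simpa using hW0)
  have hspan : ∀ x ∈ W, ∃ c : F, x = c • w := by
    intro x hx
    obtain ⟨c, hc⟩ := (finrank_eq_one_iff_of_nonzero' (⟨w, hwW⟩ : W)
      (fun h => hw0 (congrArg Subtype.val h))).1 ((by have := hdim; have := hpos; omega : Module.finrank F W = 1)) ⟨x, hx⟩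
    exact ⟨c, (congrArg Subtype.val hc).symm⟩
  have hww : f w w ≠ 0 := by
    intro h
    obtain ⟨x, hx, hne⟩ := (hW w hwW hw0).2
    obtain ⟨c, rfl⟩ := hspan x hx
    apply hne
    first
      | rw [u_smul_right hf, h, mul_zero]
      | rw [u_smul_left hf, h, mul_zero]
  -- a hyperbolic pair orthogonal to `w`
  obtain ⟨e, he0, he, hew⟩ : ∃ e, e ≠ 0 ∧ f e e = 0 ∧ f e w = 0 := by
    let L : (Fin 3 → F) →ₗ[F] (Fin 1 → F) :=
      { toFun := fun y => ![f y w]
        map_add' := fun y z => by ext i; fin_cases i; simp [u_add_left hf]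
        map_smul' := fun t y => by ext i; fin_cases i; simp [u_smul_left hf] }
    obtain ⟨y, hy, hy0⟩ := Submodule.exists_mem_ne_zero_of_ne_bot
      (LinearMap.ker_ne_bot_of_finrank_lt (f := L) (by simp))
    have hyw : f y w = 0 := congrFun (LinearMap.mem_ker.1 hy) 0
    by_cases hyy : f y y = 0
    · exact ⟨y, hy0, hyy, hyw⟩
    obtain ⟨z, hzw, hzy, hzz⟩ := exists_third hf (a := w) (b := y) (fun p r h1 h2 => by
      rw [hyw, mul_zero, add_zero] at h1; rw [u_symm_zero hf hyw, mul_zero, zero_add] at h2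
      exact ⟨(mul_eq_zero.1 h1).resolve_right hww, (mul_eq_zero.1 h2).resolve_right hyy⟩)
    obtain ⟨k, hk0, hk⟩ := exists_iso_comb hf hzy hyy hzz
    refine ⟨k • y + z, fun h => hzz ?_, hk, by rw [u_add_left hf, u_smul_left hf, hyw, hzw]; ring⟩
    have h1 := congrArg (fun v => f v z) h
    simpa [u_add_left hf, u_smul_left hf, u_symm_zero hf hzy, u_zero_left hf] using h1
  obtain ⟨d, hd, hdw, hed⟩ := exists_partner hf he hew (fun t ht => he0 (by
    rw [ht, u_smul_left hf, mul_eq_zero] at hew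
    rw [ht, hew.resolve_right hww, zero_smul]))
  have hwe : f w e = 0 := u_symm_zero hf hew
  have hwd : f w d = 0 := u_symm_zero hf hdw
  obtain ⟨δ, hδ0, hδ⟩ := exists_skew_ne_zero hf
  refine ⟨lt_of_le_of_ne inf_le_right fun hEq => ?_, fun M hSM hMG => ?_⟩
  · obtain ⟨s, hs⟩ := exists_trace_eq hf (s := -f w w) (by rw [map_neg, u_conj hf])
    set x := w + s • e + d with hx
    have hde : f d e = 1 := by rw [← u_conj hf, hed, map_one]
    have hxx : f x x = 0 := by
      simp only [hx, u_add_left hf, u_add_right hf, u_smul_left hf, u_smul_right hf, he, hd, hed, hde,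
        hwe, hwd, hew, hdw]
      linear_combination hs
    have hxw : f x w = f w w := by
      simp only [hx, u_add_left hf, u_smul_left hf, hew, hdw]; ring
    have hmem : ut hf x δ ∈ Geo.subspaceStabilizer W ⊓ (Cfsg.GU 3 F q ⊓ Geo.specialLinear (Fin 3) F) :=
      hEq.symm ▸ (⟨ut_mem_iso hf hxx hδ, ut_mem_sl hf x δ⟩ :
        ut hf x δ ∈ Cfsg.GU 3 F q ⊓ Geo.specialLinear (Fin 3) F)
    have h1 := (mem_subspaceStabilizer.1 hmem.1 w).1 hwW
    rw [ut_mulVec hf hxx, W.add_mem_iff_right hwW] at h1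
    have hne : δ * f w x ≠ 0 := mul_ne_zero hδ0 fun h => hww (hxw ▸ u_symm_zero hf h)
    have hxW := W.smul_mem (δ * f w x)⁻¹ h1
    rw [inv_smul_smul₀ hne] at hxW
    obtain ⟨c, hc⟩ := hspan x hxW
    have h2 := congrArg (fun v => f v e) hc
    simp only [hx, u_add_left hf, u_smul_left hf, he, hde, hwe] at h2
    simp at h2
  by_cases hM : M ≤ Geo.subspaceStabilizer W ⊓ (Cfsg.GU 3 F q ⊓ Geo.specialLinear (Fin 3) F)
  · exact Or.inl (le_antisymm hM hSM)
  obtain ⟨g, hgM, hgS⟩ := SetLike.not_le_iff_exists.1 hM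
  have hgi : g ∈ isoGrp f := (hMG hgM).1
  have hT : ∀ b, f b b = 0 → f w b = 0 → UtIn hf M b := fun b hb hwb l hl => by
    refine hSM ⟨mem_stab_of_forward fun x hx => ?_, ut_mem_iso hf hb hl, ut_mem_sl hf b l⟩
    obtain ⟨c, rfl⟩ := hspan x hx
    rw [ut_mulVec hf hb, u_smul_left hf, hwb, mul_zero, mul_zero, zero_smul, add_zero]
    exact hx
  have hTe := hT e he hwe
  have hTd := hT d hd hwd
  obtain ⟨x, hxx, hxT, hxw⟩ : ∃ x, f x x = 0 ∧ UtIn hf M x ∧ f x w ≠ 0 := by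
    by_contra hcon
    push Not at hcon
    apply hgS
    refine ⟨mem_stab_of_forward fun x hx => ?_, hMG hgM⟩
    have h1 := hcon _ (by rw [mem_isoGrp.1 hgi]; exact he) (hTe.conj hf he hgM hgi)
    have h2 := hcon _ (by rw [mem_isoGrp.1 hgi]; exact hd) (hTd.conj hf hd hgM hgi)
    obtain ⟨c, rfl⟩ := hspan x hx
    set g' := ((g⁻¹ : GL (Fin 3) F) : Matrix (Fin 3) (Fin 3) F)
    have hz : g' *ᵥ w ∈ W := by
      rw [← mulVec_inv_mulVec g w, mem_isoGrp.1 hgi] at h1 h2
      rw [expand hf he hd hed hwe hwd hww (g' *ᵥ w), u_symm_zero hf h2, u_symm_zero hf h1, zero_smul,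
        zero_smul, zero_add, zero_add]
      exact W.smul_mem _ hwW
    obtain ⟨t, ht⟩ := hspan _ hz
    have ht0 : t ≠ 0 := by
      rintro rfl
      apply hw0
      rw [← mulVec_inv_mulVec g w, show ((g⁻¹ : GL (Fin 3) F) : Matrix (Fin 3) (Fin 3) F) *ᵥ w = _ from ht,
        zero_smul, mulVec_zero]
    have hgw : (g : Matrix (Fin 3) (Fin 3) F) *ᵥ w = t⁻¹ • w := by
      have h3 := congrArg (fun v => (g : Matrix (Fin 3) (Fin 3) F) *ᵥ v) ht
      simp only [g', mulVec_inv_mulVec, mulVec_smul] at h3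
      rw [eq_inv_smul_iff₀ ht0]
      exact h3.symm
    rw [mulVec_smul, hgw]
    exact W.smul_mem _ (W.smul_mem _ hwW)
  refine Or.inr (le_antisymm hMG (su_le_of_ut_three hf hF hq hσ rfl fun y hy => ?_))
  exact utIn_all_of_pair hf he hd hed hwe hwd hww hTe hTd hxx hxT hxw hy

end Cfsg.Agent.H36.SUThreeGeo
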